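import Mathlib
import Cfsg.Agent.H434.RC.Subset

/-!
# The permutation part of `NsOrb` (helper434)

`M` has a normal `p`-complement `K` (`p` odd), acts on `Ω`; `C ω` subgroups of the stabilisers, `C (m ω) = m (C ω) m⁻¹`.
There are `Γ₁ ⊆ Γ₀ ⊆ Ω` such that a `p`-element preserving both acts trivially on `Γ₀`, and lies in all `C ω` if it lies
in those with `ω ∈ Γ₀`.
-/

set_option autoImplicit false

namespace Cfsg.Agent.H434.RC

open Subgroup

theorem exists_fixed {Q Ω : Type*} [Group Q] [MulAction Q Ω] {p : ℕ} [Fact p.Prime] (hQ : IsPGroup p Q)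
    (T : Set Ω) [Finite T] (hT : ∀ g : Q, ∀ ω ∈ T, g • ω ∈ T) (hcard : ¬ p ∣ Nat.card T) :
    ∃ i ∈ T, ∀ g : Q, g • i = i := by
  let _ : MulAction Q T :=
    { smul := fun g t => ⟨g • (t : Ω), hT g t t.2⟩
      one_smul := fun t => Subtype.ext (one_smul Q (t : Ω))
      mul_smul := fun a b t => Subtype.ext (mul_smul a b (t : Ω)) }
  obtain ⟨i, hi⟩ := hQ.nonempty_fixed_point_of_prime_not_dvd_card T hcard
  exact ⟨i, i.2, fun g => congrArg Subtype.val (hi g)⟩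

section

variable {M Ω : Type*} [Group M] [Finite M] [MulAction M Ω] {p : ℕ}

theorem card_orb (B : Subgroup M) (hB : ¬ p ∣ Nat.card B) (ω : Ω) :
    Finite {ν : Ω | ∃ b ∈ B, b • ω = ν} ∧ ¬ p ∣ Nat.card {ν : Ω | ∃ b ∈ B, b • ω = ν} := by
  have h8 : {ν : Ω | ∃ b ∈ B, b • ω = ν} = MulAction.orbit B ω := by
    ext ν
    constructor
    · rintro ⟨l, hl, rfl⟩
      exact ⟨⟨l, hl⟩, rfl⟩
    · rintro ⟨l, rfl⟩
      exact ⟨l, l.2, rfl⟩
  rw [h8]
  refine ⟨Finite.of_equiv _ (MulAction.orbitEquivQuotientStabilizer B ω).symm, fun h => hB (h.trans ?_)⟩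
  rw [Nat.card_congr (MulAction.orbitEquivQuotientStabilizer B ω)]
  exact Subgroup.card_quotient_dvd_card _

/-- An element of a `p`-subgroup fixing two points of a `B`-orbit: some element of `B` centralizing it moves one to the
other. -/
theorem exists_comm [Fact p.Prime] (P B : Subgroup M) (hP : IsPGroup p P) (hB : ¬ p ∣ Nat.card B)
    (hPB : ∀ h ∈ P, ∀ b ∈ B, h * b * h⁻¹ ∈ B) {g : M} (hg : g ∈ P) {i j : Ω} (hi : g • i = i) (hj : g • j = j)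
    {b : M} (hb : b ∈ B) (hbi : b • i = j) : ∃ c ∈ B, c • i = j ∧ g * c = c * g := by
  let Q := zpowers g
  have hQP : Q ≤ P := zpowers_le.2 hg
  have hQ : IsPGroup p Q := hP.to_le hQP
  have hQi : ∀ x ∈ Q, x • i = i := fun x hx => by
    have : Q ≤ MulAction.stabilizer M i := zpowers_le.2 hi
    exact this hx
  have hQj : ∀ x ∈ Q, x • j = j := fun x hx => by
    have : Q ≤ MulAction.stabilizer M j := zpowers_le.2 hj
    exact this hx
  let _ : MulAction Q M := MulAction.compHom M ((MulAut.conj : M →* MulAut M).comp Q.subtype)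
  have hsm : ∀ (x : Q) (c : M), x • c = x * c * (x : M)⁻¹ := fun x c => rfl
  let T : Set M := {c | c ∈ B ∧ c • i = j}
  have e : T ≃ (B ⊓ MulAction.stabilizer M i : Subgroup M) :=
    { toFun := fun c => ⟨b⁻¹ * c, B.mul_mem (B.inv_mem hb) c.2.1, by
        show (b⁻¹ * (c : M)) • i = i
        rw [mul_smul, c.2.2, ← hbi, inv_smul_smul]⟩
      invFun := fun c => ⟨b * c, B.mul_mem hb c.2.1, by
        rw [mul_smul, show (c : M) • i = i from c.2.2, hbi]⟩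
      left_inv := fun c => Subtype.ext (mul_inv_cancel_left b c)
      right_inv := fun c => Subtype.ext (inv_mul_cancel_left b c) }
  have hTc : ¬ p ∣ Nat.card T := by
    rw [Nat.card_congr e]
    exact fun h => hB (h.trans (Subgroup.card_dvd_of_le inf_le_left))
  obtain ⟨c, hc, hfix⟩ := exists_fixed (Q := Q) (Ω := M) hQ T (fun x c hc => by
    rw [hsm]
    refine ⟨hPB x (hQP x.2) c hc.1, ?_⟩
    rw [mul_smul, mul_smul, hQi _ (inv_mem x.2), hc.2, hQj _ x.2]) hTc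
  refine ⟨c, hc.1, hc.2, ?_⟩
  have h1 := hfix ⟨g, mem_zpowers g⟩
  rw [hsm] at h1
  change g * c * g⁻¹ = c at h1
  exact mul_inv_eq_iff_eq_mul.1 h1

end

theorem abs_act {M Ω : Type*} [Group M] [Finite M] [MulAction M Ω] [Finite Ω] {p : ℕ} [hp : Fact p.Prime] (h2 : p ≠ 2)
    (K : Subgroup M) [K.Normal] (hK : ¬ p ∣ Nat.card K) (hisP : ∀ h : M, ∃ k : ℕ, h ^ p ^ k ∈ K)
    (C : Ω → Subgroup M) (hC : ∀ ω, ∀ c ∈ C ω, c • ω = ω) (hconj : ∀ m ω, ∀ c ∈ C ω, m * c * m⁻¹ ∈ C (m • ω)) :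
    ∃ Γ₀ Γ₁ : Set Ω, ∀ y : M, (∃ k : ℕ, y ^ p ^ k = 1) → (∀ ω, y • ω ∈ Γ₀ ↔ ω ∈ Γ₀) →
      (∀ ω ∈ Γ₀, y • ω ∈ Γ₁ ↔ ω ∈ Γ₁) →
      (∀ ω ∈ Γ₀, y • ω = ω) ∧ ((∀ ω ∈ Γ₀, y ∈ C ω) → ∀ ω, y ∈ C ω) := by
  classical
  let P : Subgroup M := (default : Sylow p M)
  have hP : IsPGroup p P := (default : Sylow p M).isPGroup'
  have hPi : ¬ p ∣ P.index := (default : Sylow p M).not_dvd_index
  -- `M = K P`
  have hKP : ∀ m : M, ∃ k ∈ K, ∃ h ∈ P, m = k * h := by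
    have h1 : K ⊔ P = ⊤ := by
      rw [← Subgroup.index_eq_one]
      by_contra hne
      obtain ⟨r, hr, hrd⟩ := Nat.exists_prime_and_dvd hne
      have h3 : IsPGroup p (M ⧸ K) := by
        intro q
        obtain ⟨h, rfl⟩ := QuotientGroup.mk'_surjective K q
        obtain ⟨k, hk⟩ := hisP h
        exact ⟨k, by rw [← map_pow]; exact (QuotientGroup.eq_one_iff _).2 hk⟩
      obtain ⟨n, hn⟩ := h3.exists_card_eq
      have h4 : r ∣ p ^ n := by
        rw [← hn]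
        exact hrd.trans (Subgroup.index_dvd_of_le le_sup_left)
      have h5 := (Nat.prime_dvd_prime_iff_eq hr hp.out).1 (hr.dvd_of_dvd_pow h4)
      exact hPi (h5 ▸ hrd.trans (Subgroup.index_dvd_of_le le_sup_right))
    intro m
    have h3 : m ∈ K ⊔ P := by rw [h1]; trivial
    obtain ⟨k, hk, h, hh, rfl⟩ := Subgroup.mem_sup_of_normal_left.1 h3
    exact ⟨k, hk, h, hh, rfl⟩
  -- the minimal family
  let Fam : Set Ω → Prop := fun Γ => (∀ g ∈ P, ∀ ω ∈ Γ, g • ω ∈ Γ) ∧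
    ∀ g ∈ P, (∀ ω ∈ Γ, g ∈ C ω) → ∀ ω, g ∈ C ω
  have hex : ∃ n : ℕ, ∃ Γ : Set Ω, Fam Γ ∧ Γ.ncard = n :=
    ⟨_, Set.univ, ⟨fun _ _ _ _ => trivial, fun g _ h ω => h ω trivial⟩, rfl⟩
  obtain ⟨Γ₀, ⟨hinv, hcen⟩, hcard⟩ := Nat.find_spec hex
  have hmin : ∀ Γ : Set Ω, Fam Γ → Γ₀.ncard ≤ Γ.ncard := fun Γ h => hcard ▸ Nat.find_min' hex ⟨Γ, h, rfl⟩
  clear hcard
  let Λ : Subgroup M :=
    { carrier := {m | ∀ ω, m • ω ∈ Γ₀ ↔ ω ∈ Γ₀}
      one_mem' := fun ω => by rw [one_smul]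
      mul_mem' := fun {a b} ha hb ω => by rw [mul_smul, ha, hb]
      inv_mem' := fun {a} ha ω => by rw [← ha (a⁻¹ • ω), smul_inv_smul] }
  have hΛ : ∀ m, m ∈ Λ ↔ ∀ ω, m • ω ∈ Γ₀ ↔ ω ∈ Γ₀ := fun m => Iff.rfl
  have hPΛ : P ≤ Λ := by
    intro g hg ω
    refine ⟨fun h => ?_, hinv g hg ω⟩
    have := hinv g⁻¹ (inv_mem hg) _ h
    rwa [inv_smul_smul] at this
  let B : Subgroup M := Λ ⊓ K
  have hBp : ¬ p ∣ Nat.card B := fun h => hK (h.trans (Subgroup.card_dvd_of_le inf_le_right))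
  have hΛB : ∀ m ∈ Λ, ∀ b ∈ B, m * b * m⁻¹ ∈ B := by
    intro m hm b hb
    exact Subgroup.mem_inf.2 ⟨Λ.mul_mem (Λ.mul_mem hm hb.1) (Λ.inv_mem hm), Subgroup.Normal.conj_mem inferInstance _ hb.2 _⟩
  have hPB : ∀ m ∈ P, ∀ b ∈ B, m * b * m⁻¹ ∈ B := fun m hm => hΛB m (hPΛ hm)
  -- `B` acts trivially on `Γ₀`
  have hBtriv : ∀ i₀ ∈ Γ₀, ∀ b ∈ B, b • i₀ = i₀ := by
    intro i₀ hi₀
    let T : Set Ω := {ν | ∃ b ∈ B, b • i₀ = ν}
    obtain ⟨hTf, hTc⟩ := card_orb (p := p) B hBp i₀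
    have hT₀ : i₀ ∈ T := ⟨1, one_mem _, one_smul _ _⟩
    have hTΓ : T ⊆ Γ₀ := by
      rintro _ ⟨b, hb, rfl⟩
      exact ((hΛ b).1 hb.1 _).2 hi₀
    have hTB : ∀ s ∈ T, ∀ t ∈ T, ∃ b ∈ B, b • s = t := by
      rintro _ ⟨b, hb, rfl⟩ _ ⟨c, hc, rfl⟩
      refine ⟨c * b⁻¹, B.mul_mem hc (B.inv_mem hb), ?_⟩
      rw [mul_smul, inv_smul_smul]
    have hBT : ∀ b ∈ B, ∀ t ∈ T, b • t ∈ T := by
      rintro b hb _ ⟨c, hc, rfl⟩
      exact ⟨b * c, B.mul_mem hb hc, mul_smul _ _ _⟩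
    -- elements of `P` mapping a point of `T` to a point of `T` preserve `T`
    have hPT : ∀ h ∈ P, ∀ t ∈ T, h • t ∈ T → ∀ s ∈ T, h • s ∈ T := by
      intro h hh t ht hht s hs
      obtain ⟨b, hb, rfl⟩ := hTB t ht s hs
      have h3 : h • b • t = (h * b * h⁻¹) • h • t := by simp only [mul_smul, inv_smul_smul]
      rw [h3]
      exact hBT _ (hPB h hh b hb) _ hht
    let R : Subgroup M := P ⊓
      { carrier := {m | ∀ ω, m • ω ∈ T ↔ ω ∈ T}
        one_mem' := fun ω => by rw [one_smul]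
        mul_mem' := fun {a b} ha hb ω => by rw [mul_smul, ha, hb]
        inv_mem' := fun {a} ha ω => by rw [← ha (a⁻¹ • ω), smul_inv_smul] }
    have hR : ∀ h ∈ P, ∀ t ∈ T, h • t ∈ T → h ∈ R := by
      intro h hh t ht hht
      refine Subgroup.mem_inf.2 ⟨hh, fun ω => ⟨fun hω => ?_, hPT h hh t ht hht ω⟩⟩
      have h3 := hPT h⁻¹ (inv_mem hh) (h • t) hht (by rw [inv_smul_smul]; exact ht) _ hω
      rwa [inv_smul_smul] at h3
    have hRp : IsPGroup p R := hP.to_le inf_le_left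
    obtain ⟨i, hi, hfix⟩ := exists_fixed (Q := R) (Ω := Ω) hRp T (fun g ω hω => (g.2.2 ω).2 hω) hTc
    have hfix' : ∀ h ∈ P, ∀ t ∈ T, h • t ∈ T → h • i = i := fun h hh t ht hht => hfix ⟨h, hR h hh t ht hht⟩
    -- `T` lies in the `P`-orbit of `i`
    have hTi : ∀ j ∈ T, ∃ h ∈ P, h • i = j := by
      intro j hj
      by_contra hcon
      push Not at hcon
      let Γ' : Set Ω := {ω | ω ∈ Γ₀ ∧ ∀ h ∈ P, h • i ≠ ω}
      have hΓ' : ∀ g ∈ P, ∀ ω ∈ Γ', g • ω ∈ Γ' := by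
        intro g hg ω hω
        refine ⟨hinv g hg ω hω.1, fun h hh hhi => ?_⟩
        apply hω.2 (g⁻¹ * h) (mul_mem (inv_mem hg) hh)
        rw [mul_smul, hhi, inv_smul_smul]
      have hjΓ' : j ∈ Γ' := ⟨hTΓ hj, hcon⟩
      have hFam : Fam Γ' := by
        refine ⟨hΓ', fun g hg hgC => ?_⟩
        apply hcen g hg
        intro ω hω
        by_cases hω' : ω ∈ Γ'
        · exact hgC ω hω'
        obtain ⟨h, hh, rfl⟩ : ∃ h ∈ P, h • i = ω := by
          by_contra hcon'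
          push Not at hcon'
          exact hω' ⟨hω, hcon'⟩
        -- `g' = h⁻¹ g h`
        have hg' : h⁻¹ * g * h⁻¹⁻¹ ∈ P := by
          rw [inv_inv]
          exact mul_mem (mul_mem (inv_mem hh) hg) hh
        have h3 : h⁻¹ * g * h⁻¹⁻¹ ∈ C j := by
          have h4 := hconj h⁻¹ (h • j) g (hgC _ (hΓ' h hh j hjΓ'))
          rwa [inv_smul_smul] at h4
        have h4 : (h⁻¹ * g * h⁻¹⁻¹) • j = j := hC j _ h3
        have h5 : (h⁻¹ * g * h⁻¹⁻¹) • i = i := hfix' _ hg' j hj (by rw [h4]; exact hj)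
        obtain ⟨b, hb, hbj⟩ := hTB i hi j hj
        obtain ⟨c, hc, hci, hcg⟩ := exists_comm P B hP hBp hPB hg' h5 h4 hb hbj
        have h6 : h⁻¹ * g * h⁻¹⁻¹ ∈ C i := by
          have h7 := hconj c⁻¹ j _ h3
          rw [← hci, inv_smul_smul, inv_inv c, mul_assoc, hcg, ← mul_assoc, inv_mul_cancel, one_mul] at h7
          exact h7
        have h7 := hconj h i _ h6
        rwa [show h * (h⁻¹ * g * h⁻¹⁻¹) * h⁻¹ = g by group] at h7
      have h3 := hmin Γ' hFam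
      have h4 : Γ' ⊂ Γ₀ := by
        refine ⟨fun ω hω => hω.1, fun h => ?_⟩
        exact (h (hTΓ hi)).2 1 (one_mem _) (one_smul _ _)
      have h5 := Set.ncard_lt_ncard h4 (Set.toFinite _)
      omega
    have hTs : ∀ j ∈ T, j = i := by
      intro j hj
      obtain ⟨h, hh, rfl⟩ := hTi j hj
      exact hfix' h hh i hi hj
    intro b hb
    rw [hTs _ (hBT b hb i₀ hT₀), ← hTs _ hT₀]
  obtain ⟨Γ₁, hΓ₁, hrig⟩ := exists_rigid (Ω := Ω) h2 _ P hP Γ₀ (Set.toFinite _) le_rfl hinv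
  refine ⟨Γ₀, Γ₁, fun y hy hy0 hy1 => ⟨?_, ?_⟩⟩
  · obtain ⟨k, hk, h, hh, rfl⟩ := hKP y
    have hkB : k ∈ B := by
      refine Subgroup.mem_inf.2 ⟨?_, hk⟩
      have h3 : k * h ∈ Λ := hy0
      have h4 := Λ.mul_mem h3 (Λ.inv_mem (hPΛ hh))
      rwa [mul_inv_cancel_right] at h4
    have h3 : ∀ ω ∈ Γ₀, (k * h) • ω = h • ω := by
      intro ω hω
      rw [mul_smul]
      exact hBtriv _ (hinv h hh ω hω) k hkB
    have h4 := hrig h hh (fun ω => by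
      by_cases hω : ω ∈ Γ₀
      · rw [← hy1 ω hω, h3 ω hω]
      · constructor
        · intro h'
          exact absurd (((hΛ h).1 (hPΛ hh) ω).1 (hΓ₁ h')) hω
        · intro h'
          exact absurd (hΓ₁ h') hω)
    intro ω hω
    rw [h3 ω hω, h4 ω hω]
  · intro hyC
    -- a conjugate of `y` in `P`
    obtain ⟨m, hm, hmP⟩ : ∃ m ∈ Λ, m⁻¹ * y * m ∈ P := by
      obtain ⟨hTf, hTc⟩ := card_orb (p := p) (M := M) (Ω := M ⧸ P) B hBp ((1 : M) : M ⧸ P)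
      have hyP : IsPGroup p (zpowers y) := by
        rintro ⟨z, hz⟩
        obtain ⟨k, hk⟩ := hy
        refine ⟨k, Subtype.ext ?_⟩
        obtain ⟨n, rfl⟩ := mem_zpowers_iff.1 hz
        show (y ^ n) ^ p ^ k = 1
        rw [← zpow_natCast, ← zpow_mul, mul_comm, zpow_mul, zpow_natCast, hk, one_zpow]
      have hyΛ : zpowers y ≤ Λ := zpowers_le.2 hy0
      obtain ⟨_, ⟨b, hb, rfl⟩, hfix⟩ := exists_fixed (Q := zpowers y) (Ω := M ⧸ P) hyP _ (by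
        rintro ⟨z, hz⟩ _ ⟨b, hb, rfl⟩
        -- `z b = b' h`
        obtain ⟨k, hk, h, hh, hkh⟩ := hKP (z * b)
        have hzb : z * b ∈ Λ := Λ.mul_mem (hyΛ hz) hb.1
        have hkB : k ∈ B := by
          refine Subgroup.mem_inf.2 ⟨?_, hk⟩
          have h4 := Λ.mul_mem hzb (Λ.inv_mem (hPΛ hh))
          rwa [hkh, mul_inv_cancel_right] at h4
        refine ⟨k, hkB, ?_⟩
        show k • ((1 : M) : M ⧸ P) = z • b • ((1 : M) : M ⧸ P)
        rw [← mul_smul, hkh]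
        show ((k * 1 : M) : M ⧸ P) = ((k * h * 1 : M) : M ⧸ P)
        rw [QuotientGroup.eq, mul_one, mul_one, inv_mul_cancel_left]
        exact hh) hTc
      refine ⟨b, hb.1, ?_⟩
      have h3 := hfix ⟨y, mem_zpowers y⟩
      change y • b • ((1 : M) : M ⧸ P) = b • ((1 : M) : M ⧸ P) at h3
      rw [← mul_smul] at h3
      change ((y * b * 1 : M) : M ⧸ P) = ((b * 1 : M) : M ⧸ P) at h3
      rw [mul_one, mul_one] at h3
      have h4 := QuotientGroup.eq.1 h3.symm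
      rwa [← mul_assoc] at h4
    have h3 : ∀ ω ∈ Γ₀, m⁻¹ * y * m ∈ C ω := by
      intro ω hω
      have h4 := hconj m⁻¹ (m • ω) y (hyC _ (((hΛ m).1 hm ω).2 hω))
      rwa [inv_smul_smul, inv_inv] at h4
    have h4 := hcen _ hmP h3
    intro ω
    have h5 := hconj m (m⁻¹ • ω) _ (h4 (m⁻¹ • ω))
    rwa [smul_inv_smul, show m * (m⁻¹ * y * m) * m⁻¹ = y by group] at h5

end Cfsg.Agent.H434.RC
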