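import Mathlib
import Cfsg.Agent.Lib.GenFitting

/-!
# The components inside a normal subgroup without solvable normal subgroups (helper434)
-/

set_option autoImplicit false

namespace Cfsg.Agent.H434.RC

open Subgroup Cfsg
open Cfsg.Agent.Lib.Cores Cfsg.Agent.Lib.GenFitting
open Cfsg.Agent.SignalizersComponents.Components

variable {M : Type*} [Group M]

/-- the components contained in `K` -/
def cset (K : Subgroup M) : Set (Subgroup M) := {S | S ≤ K ∧ IsComponent S}

theorem cset_conj (K : Subgroup M) [hK : K.Normal] {S : Subgroup M} (hS : S ∈ cset K) (m : M) :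
    S.map (MulAut.conj m).toMonoidHom ∈ cset K := by
  refine ⟨?_, isComponent_conj m hS.2⟩
  rintro _ ⟨s, hs, rfl⟩
  exact hK.conj_mem s (hS.1 hs) m

theorem cset_comm (K : Subgroup M) {S T : Subgroup M} (hS : S ∈ cset K) (hT : T ∈ cset K) (hne : S ≠ T) :
    ∀ s ∈ S, ∀ t ∈ T, s * t = t * s := by
  intro s hs t ht
  exact (Subgroup.mem_centralizer_iff.1 (component_le_centralizer_of_ne hS.2 hT.2 hne hs) t ht).symm

/-- the elements centralizing all components in `K` -/
def ccent (K : Subgroup M) : Subgroup M where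
  carrier := {y | ∀ S ∈ cset K, ∀ s ∈ S, y * s = s * y}
  one_mem' := fun S _ s _ => by rw [one_mul, mul_one]
  mul_mem' := fun {a b} ha hb S hS s hs => by
    show a * b * s = s * (a * b)
    rw [mul_assoc, hb S hS s hs, ← mul_assoc, ha S hS s hs, mul_assoc]
  inv_mem' := fun {a} ha S hS s hs => by
    show a⁻¹ * s = s * a⁻¹
    rw [inv_mul_eq_iff_eq_mul, ← mul_assoc, ha S hS s hs, mul_inv_cancel_right]

theorem mem_ccent {K : Subgroup M} {y : M} : y ∈ ccent K ↔ ∀ S ∈ cset K, ∀ s ∈ S, y * s = s * y := Iff.rfl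

instance ccent_normal (K : Subgroup M) [K.Normal] : (ccent K).Normal := by
  constructor
  intro y hy m S hS s hs
  have h1 := hy _ (cset_conj K hS m⁻¹) (m⁻¹ * s * m⁻¹⁻¹) ⟨s, hs, rfl⟩
  calc m * y * m⁻¹ * s = m * (y * (m⁻¹ * s * m⁻¹⁻¹)) * m⁻¹ := by group
    _ = m * ((m⁻¹ * s * m⁻¹⁻¹) * y) * m⁻¹ := by rw [h1]
    _ = s * (m * y * m⁻¹) := by group

variable [Finite M]

theorem ccent_inf (K : Subgroup M) [hK : K.Normal]
    (hA : ∀ A : Subgroup M, A.Normal → A ≤ K → Group.IsSolvable A → A = ⊥) : ccent K ⊓ K = ⊥ := by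
  -- the Fitting subgroup of `K` is trivial
  have hF : fittingSubgroup K = ⊥ := by
    have h1 : (fittingSubgroup K).map K.subtype = ⊥ := by
      have := fittingSubgroup_characteristic (G := K)
      have h2 := fittingSubgroup_isNilpotent (G := K)
      apply hA _ inferInstance (map_subtype_le _)
      have h3 : Group.IsNilpotent ((fittingSubgroup K).map K.subtype) :=
        (isNilpotent_map_equiv K.subtype_injective _).2 h2
      infer_instance
    exact (Subgroup.map_eq_bot_iff_of_injective _ K.subtype_injective).1 h1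
  -- the centralizer of the layer of `K` is in the layer
  have hL : ∀ z : K, (z : M) ∈ ccent K → z ∈ layer K ∧ ∀ l ∈ layer K, z * l = l * z := by
    intro z hz
    have h1 : z ∈ centralizer (layer K : Set K) := by
      rw [Subgroup.mem_centralizer_iff]
      have h2 : layer K ≤ centralizer ({z} : Set K) := by
        rw [layer_le_iff]
        intro S hS s hs
        rw [Subgroup.mem_centralizer_singleton_iff]
        apply Subtype.ext
        have h3 : S.map K.subtype ∈ cset K :=
          ⟨map_subtype_le _, isComponent_map_subtype (Normal.isSubnormal hK) hS⟩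
        exact (hz _ h3 s ⟨s, hs, rfl⟩).symm
      intro l hl
      exact Subgroup.mem_centralizer_singleton_iff.1 (h2 hl)
    have h2 : generalizedFittingSubgroup K = layer K := by
      rw [genFitting_def, hF, sup_bot_eq]
    refine ⟨?_, fun l hl => ?_⟩
    · have h3 := centralizer_genFitting_le (G := K)
      rw [h2] at h3
      exact h3 h1
    · exact (Subgroup.mem_centralizer_iff.1 h1 l hl).symm
  apply hA _ inferInstance inf_le_right
  have hcom : ∀ a b : (ccent K ⊓ K : Subgroup M), a * b = b * a := by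
    intro a b
    apply Subtype.ext
    have h1 := hL ⟨a, a.2.2⟩ a.2.1
    have h2 := hL ⟨b, b.2.2⟩ b.2.1
    have h3 : ((a : M)) * b = b * a := congrArg Subtype.val (h1.2 _ h2.1)
    exact h3
  exact Group.isSolvable_of_comm hcom

theorem cset_simple (K : Subgroup M) [hK : K.Normal]
    (hA : ∀ A : Subgroup M, A.Normal → A ≤ K → Group.IsSolvable A → A = ⊥) {S : Subgroup M} (hS : S ∈ cset K) :
    IsSimpleGroup S ∧ ¬ IsMulCommutative S := by
  have hq : IsQuasisimple S := hS.2.2
  have hc : center S = ⊥ := by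
    rw [eq_bot_iff]
    intro z hz
    rw [Subgroup.mem_bot]
    apply Subtype.ext
    have h1 : (z : M) ∈ ccent K ⊓ K := by
      refine Subgroup.mem_inf.2 ⟨?_, hS.1 z.2⟩
      intro T hT t ht
      by_cases h : T = S
      · subst h
        exact (congrArg Subtype.val (Subgroup.mem_center_iff.1 hz ⟨t, ht⟩)).symm
      · exact (cset_comm K hT hS h t ht z z.2).symm
    rw [ccent_inf K hA, Subgroup.mem_bot] at h1
    exact h1
  refine ⟨?_, quasisimple_not_isMulCommutative hq⟩
  have := quasisimple_nontrivial hq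
  refine ⟨fun N hN => ?_⟩
  rcases quasisimple_normal hq N hN with h | h
  · exact Or.inr h
  · left
    rw [hc] at h
    exact eq_bot_iff.2 h

theorem ccent_cent (K : Subgroup M) [hK : K.Normal]
    (hA : ∀ A : Subgroup M, A.Normal → A ≤ K → Group.IsSolvable A → A = ⊥) {y : M} (hy : y ∈ ccent K) :
    ∀ k ∈ K, y * k = k * y := by
  intro k hk
  have h1 : y * k * y⁻¹ * k⁻¹ ∈ ccent K ⊓ K := by
    refine Subgroup.mem_inf.2 ⟨?_, ?_⟩
    · have h2 : y * k * y⁻¹ * k⁻¹ = y * (k * y⁻¹ * k⁻¹) := by group
      rw [h2]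
      exact mul_mem hy ((ccent_normal K).conj_mem _ (inv_mem hy) k)
    · exact mul_mem (hK.conj_mem _ hk y) (inv_mem hk)
  rw [ccent_inf K hA, Subgroup.mem_bot, mul_inv_eq_one, mul_inv_eq_iff_eq_mul] at h1
  exact h1

end Cfsg.Agent.H434.RC
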