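import Mathlib
import Cfsg.Agent.H527.RC.Stmts
import Cfsg.Agent.Lib.MinNormal
import Cfsg.Agent.H434.RC.Act
import Cfsg.Agent.H434.RC.Comp

/-!
# `NsOrb` for odd primes, from two elements in each simple group (helper434)

`nsOrb_of` : `NsOrb p` (`p` odd) if each non-abelian simple `p'`-group has two nontrivial elements of different orders moved
by all automorphisms of order `p`.
-/

set_option autoImplicit false

namespace Cfsg.Agent.H434.RC

open Subgroup Cfsg Cfsg.Agent.H527.RC Cfsg.Agent.Lib.MinNormal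

universe u

/-- the pairs of different orders of nontrivial elements moved by all automorphisms of order `p` -/
def PSet (p : ℕ) (S : Type*) [Group S] : Set (ℕ × ℕ) :=
  {x | x.1 ≠ x.2 ∧ (∃ a : S, a ≠ 1 ∧ (∀ α : MulAut S, orderOf α = p → α a ≠ a) ∧ orderOf a = x.1) ∧
    ∃ a : S, a ≠ 1 ∧ (∀ α : MulAut S, orderOf α = p → α a ≠ a) ∧ orderOf a = x.2}

theorem PSet.congr {S T : Type*} [Group S] [Group T] (p : ℕ) (e : S ≃* T) : PSet p S = PSet p T := by
  have key : ∀ {S T : Type _} [Group S] [Group T] (e : S ≃* T) (n : ℕ),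
      (∃ a : S, a ≠ 1 ∧ (∀ α : MulAut S, orderOf α = p → α a ≠ a) ∧ orderOf a = n) →
      ∃ a : T, a ≠ 1 ∧ (∀ α : MulAut T, orderOf α = p → α a ≠ a) ∧ orderOf a = n := by
    intro S T _ _ e n ⟨a, h1, h2, h3⟩
    refine ⟨e a, ?_, ?_, ?_⟩
    · intro h
      exact h1 (e.injective (by rw [h, map_one]))
    · intro α hα hx
      apply h2 ((MulAut.congr e).symm α) (by rw [MulEquiv.orderOf_eq (MulAut.congr e).symm α]; exact hα)
      show e.symm (α (e a)) = a
      rw [hx, MulEquiv.symm_apply_apply]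
    · rw [MulEquiv.orderOf_eq, h3]
  have key' : ∀ {S T : Type _} [Group S] [Group T] (e : S ≃* T) (n : ℕ),
      (∃ a : S, a ≠ 1 ∧ (∀ α : MulAut S, orderOf α = p → α a ≠ a) ∧ orderOf a = n) →
      ∃ a : T, a ≠ 1 ∧ (∀ α : MulAut T, orderOf α = p → α a ≠ a) ∧ orderOf a = n := by
    intro S T _ _ e n ⟨a, h1, h2, h3⟩
    refine ⟨e a, ?_, ?_, ?_⟩
    · intro h
      exact h1 (e.injective (by rw [h, map_one]))
    · intro α hα hx
      apply h2 ((MulAut.congr e).symm α) (by rw [MulEquiv.orderOf_eq (MulAut.congr e).symm α]; exact hα)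
      show e.symm (α (e a)) = a
      rw [hx, MulEquiv.symm_apply_apply]
    · rw [MulEquiv.orderOf_eq, h3]
  ext x
  constructor
  · rintro ⟨h1, h2, h3⟩
    exact ⟨h1, key e _ h2, key e _ h3⟩
  · rintro ⟨h1, h2, h3⟩
    exact ⟨h1, key' e.symm _ h2, key' e.symm _ h3⟩

variable {M : Type u} [Group M]

/-- the conjugation action on the components inside `K` -/
@[instance_reducible] def cact (K : Subgroup M) [K.Normal] : MulAction M (cset K) where
  smul m S := ⟨S.1.map (MulAut.conj m).toMonoidHom, cset_conj K S.2 m⟩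
  one_smul S := Subtype.ext (map_conj_one S.1)
  mul_smul a b S := Subtype.ext (map_conj_map_conj a b S.1).symm

theorem exists_prod (K : Subgroup M) [K.Normal] (f : cset K → M) (hf : ∀ S, f S ∈ S.1) (F : Finset (cset K)) :
    ∃ x ∈ K, (∀ S ∈ F, x * (f S)⁻¹ ∈ centralizer (S.1 : Set M)) ∧ ∀ S ∉ F, x ∈ centralizer (S.1 : Set M) := by
  classical
  have hcen : ∀ S T : cset K, S ≠ T → f S ∈ centralizer (T.1 : Set M) := by
    intro S T hne
    rw [Subgroup.mem_centralizer_iff]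
    intro t ht
    exact (cset_comm K S.2 T.2 (fun h => hne (Subtype.ext h)) _ (hf S) t ht).symm
  induction F using Finset.induction_on with
  | empty => exact ⟨1, one_mem _, by simp, fun S _ => one_mem _⟩
  | insert S₀ F hS₀ ih =>
    obtain ⟨x, hx, h1, h2⟩ := ih
    refine ⟨x * f S₀, K.mul_mem hx (S₀.2.1 (hf S₀)), ?_, ?_⟩
    · intro S hS
      rcases Finset.mem_insert.1 hS with h | h
      · subst h
        rw [mul_inv_cancel_right]
        exact h2 S hS₀
      · have hne : S₀ ≠ S := fun h' => hS₀ (h' ▸ h)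
        have h3 : f S₀ * (f S)⁻¹ = (f S)⁻¹ * f S₀ := by
          have h4 := cset_comm K S₀.2 S.2 (fun h => hne (Subtype.ext h)) _ (hf S₀) _ (inv_mem (hf S))
          exact h4
        rw [mul_assoc, h3, ← mul_assoc]
        exact mul_mem (h1 S h) (hcen _ _ hne)
    · intro S hS
      rw [Finset.mem_insert, not_or] at hS
      exact mul_mem (h2 S hS.2) (hcen _ _ (Ne.symm hS.1))

theorem eq_one_of_fixed {S : Type*} [Group S] [Finite S] {p : ℕ} (hp : p.Prime) {a : S}
    (ha : ∀ α : MulAut S, orderOf α = p → α a ≠ a) {α : MulAut S} {k : ℕ} (hk : α ^ p ^ k = 1) (hα : α a = a) : α = 1 := by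
  by_contra hne
  obtain ⟨j, -, hj⟩ := (Nat.dvd_prime_pow hp).1 (orderOf_dvd_of_pow_eq_one hk)
  have hj0 : j ≠ 0 := by
    rintro rfl
    rw [pow_zero, orderOf_eq_one_iff] at hj
    exact hne hj
  apply ha (α ^ p ^ (j - 1))
  · rw [orderOf_pow' _ (pow_pos hp.pos _).ne', hj]
    have h2 : p ^ j = p ^ (j - 1) * p := by
      rw [← pow_succ, Nat.sub_add_cancel (Nat.pos_of_ne_zero hj0)]
    rw [h2, Nat.gcd_eq_right (dvd_mul_right _ _), Nat.mul_div_cancel_left _ (pow_pos hp.pos _)]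
  · have h6 : α ∈ MulAction.stabilizer (MulAut S) a := hα
    exact pow_mem h6 _

/-- **`NsOrb` for odd primes.** -/
theorem nsOrb_of {p : ℕ} (hp : p.Prime) (h2 : p ≠ 2)
    (hrow : ∀ (S : Type u) [Group S] [Finite S] [IsSimpleGroup S], ¬ IsMulCommutative S → ¬ p ∣ Nat.card S →
      (PSet p S).Nonempty) : NsOrb.{u} p := by
  classical
  intro M _ _ K hLP hA
  have : Fact p.Prime := ⟨hp⟩
  have hKn : K.Normal := hLP.normal
  let _ : MulAction M (cset K) := cact K
  have hsm : ∀ (m : M) (S : cset K), (m • S).1 = S.1.map (MulAut.conj m).toMonoidHom := fun _ _ => rfl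
  have hsm' : ∀ (m : M) (S : cset K) (s : M), s ∈ S.1 → m * s * m⁻¹ ∈ (m • S).1 := fun m S s hs => ⟨s, hs, rfl⟩
  have hcc : ∀ (m : M) (S : cset K) (c : M), c ∈ centralizer (S.1 : Set M) →
      m * c * m⁻¹ ∈ centralizer ((m • S).1 : Set M) := by
    intro m S c hc
    rw [Subgroup.mem_centralizer_iff]
    rintro _ ⟨s, hs, rfl⟩
    show m * s * m⁻¹ * (m * c * m⁻¹) = m * c * m⁻¹ * (m * s * m⁻¹)
    have h3 := Subgroup.mem_centralizer_iff.1 hc s hs
    calc m * s * m⁻¹ * (m * c * m⁻¹) = m * (s * c) * m⁻¹ := by group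
      _ = m * (c * s) * m⁻¹ := by rw [h3]
      _ = _ := by group
  obtain ⟨Γ₀, Γ₁, H⟩ := abs_act (Ω := cset K) h2 K hLP.cop hLP.isP (fun S => centralizer (S.1 : Set M))
    (by
      intro S c hc
      apply Subtype.ext
      rw [hsm]
      exact Subgroup.mem_normalizer_iff_map_conj_eq.1 (Subgroup.centralizer_le_normalizer _ hc))
    hcc
  -- orders
  obtain ⟨ch, hch⟩ : ∃ ch : Set (ℕ × ℕ) → ℕ × ℕ, ∀ s, s.Nonempty → ch s ∈ s := by
    have : ∀ s : Set (ℕ × ℕ), ∃ x : ℕ × ℕ, s.Nonempty → x ∈ s := by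
      intro s
      by_cases hs : s.Nonempty
      · exact ⟨hs.some, fun _ => hs.some_mem⟩
      · exact ⟨(0, 0), fun h => absurd h hs⟩
    choose ch hch using this
    exact ⟨ch, hch⟩
  have hsimp : ∀ S : cset K, IsSimpleGroup S.1 ∧ ¬ IsMulCommutative S.1 := fun S => cset_simple K hA S.2
  have hpS : ∀ S : cset K, ¬ p ∣ Nat.card S.1 := fun S h => hLP.cop (h.trans (Subgroup.card_dvd_of_le S.2.1))
  let n : cset K → ℕ × ℕ := fun S => ch (PSet p S.1)
  have hn : ∀ S : cset K, n S ∈ PSet p S.1 := by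
    intro S
    have := (hsimp S).1
    exact hch _ (hrow S.1 (hsimp S).2 (hpS S))
  have hnconj : ∀ (m : M) (S : cset K), n (m • S) = n S := by
    intro m S
    show ch (PSet p (m • S).1) = ch (PSet p S.1)
    congr 1
    exact (PSet.congr p (S.1.equivMapOfInjective (MulAut.conj m).toMonoidHom (MulAut.conj m).injective)).symm
  -- the elements
  have hf : ∀ S : cset K, ∃ s : M, ∃ hs : s ∈ S.1, (S ∉ Γ₀ → s = 1) ∧ (S ∈ Γ₀ → s ≠ 1 ∧
      (∀ α : MulAut S.1, orderOf α = p → α ⟨s, hs⟩ ≠ ⟨s, hs⟩) ∧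
      orderOf s = if S ∈ Γ₁ then (n S).1 else (n S).2) := by
    intro S
    by_cases h0 : S ∈ Γ₀
    · by_cases h1 : S ∈ Γ₁
      · obtain ⟨-, ⟨a, ha1, ha2, ha3⟩, -⟩ := hn S
        refine ⟨a, a.2, fun h => absurd h0 h, fun _ => ⟨fun h => ha1 (Subtype.ext h), ha2, ?_⟩⟩
        rw [if_pos h1, Subgroup.orderOf_coe, ha3]
      · obtain ⟨-, -, a, ha1, ha2, ha3⟩ := hn S
        refine ⟨a, a.2, fun h => absurd h0 h, fun _ => ⟨fun h => ha1 (Subtype.ext h), ha2, ?_⟩⟩
        rw [if_neg h1, Subgroup.orderOf_coe, ha3]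
    · exact ⟨1, one_mem _, fun _ => rfl, fun h => absurd h h0⟩
  choose f hfS hf0 hf1 using hf
  have hft : Fintype (cset K) := Fintype.ofFinite _
  obtain ⟨x, hxK, hx, -⟩ := exists_prod K f hfS (Finset.univ : Finset (cset K))
  refine ⟨x, hxK, fun y hy hxy => ?_⟩
  -- `f (y S) = y (f S) y⁻¹`
  have hfy : ∀ S : cset K, f (y • S) = y * f S * y⁻¹ := by
    intro S
    have h3 : x * (f (y • S))⁻¹ ∈ centralizer ((y • S).1 : Set M) := hx _ (Finset.mem_univ _)
    have h4 : x * (y * f S * y⁻¹)⁻¹ ∈ centralizer ((y • S).1 : Set M) := by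
      have h5 := hcc y S _ (hx S (Finset.mem_univ _))
      have h6 : y * (x * (f S)⁻¹) * y⁻¹ = x * (y * f S * y⁻¹)⁻¹ := by
        rw [← mul_assoc, ← hxy]
        group
      rwa [h6] at h5
    have h5 : f (y • S) * (y * f S * y⁻¹)⁻¹ ∈ centralizer ((y • S).1 : Set M) := by
      have h6 := mul_mem (inv_mem h3) h4
      rwa [show (x * (f (y • S))⁻¹)⁻¹ * (x * (y * f S * y⁻¹)⁻¹) = f (y • S) * (y * f S * y⁻¹)⁻¹ by group] at h6
    have h6 : f (y • S) * (y * f S * y⁻¹)⁻¹ ∈ (y • S).1 := mul_mem (hfS _) (inv_mem (hsm' y S _ (hfS S)))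
    have h7 : (⟨_, h6⟩ : (y • S).1) ∈ center (y • S).1 := by
      rw [Subgroup.mem_center_iff]
      intro g
      apply Subtype.ext
      exact Subgroup.mem_centralizer_iff.1 h5 g g.2
    have hsS := (hsimp (y • S)).1
    have h8 : center (y • S).1 = ⊥ := by
      rcases (inferInstance : (center (y • S).1).Normal).eq_bot_or_eq_top with h | h
      · exact h
      · exfalso
        apply (hsimp (y • S)).2
        refine ⟨⟨fun a b => ?_⟩⟩
        have : b ∈ center (y • S).1 := by rw [h]; trivial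
        exact Subgroup.mem_center_iff.1 this a
    rw [h8, Subgroup.mem_bot] at h7
    have h9 := congrArg Subtype.val h7
    exact mul_inv_eq_one.1 h9
  have hne : ∀ S : cset K, S ∈ Γ₀ ↔ f S ≠ 1 := by
    intro S
    constructor
    · exact fun h => (hf1 S h).1
    · intro h
      by_contra h'
      exact h (hf0 S h')
  have hy0 : ∀ S : cset K, y • S ∈ Γ₀ ↔ S ∈ Γ₀ := by
    intro S
    rw [hne, hne, hfy]
    rw [not_iff_not]
    constructor
    · intro h
      have h3 : f S = y⁻¹ * (y * f S * y⁻¹) * y := by group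
      rw [h3, h, mul_one, inv_mul_cancel]
    · intro h
      rw [h, mul_one, mul_inv_cancel]
  have hy1 : ∀ S ∈ Γ₀, y • S ∈ Γ₁ ↔ S ∈ Γ₁ := by
    intro S hS
    have h3 := (hf1 S hS).2.2
    have h4 := (hf1 (y • S) ((hy0 S).2 hS)).2.2
    have h5 : orderOf (f (y • S)) = orderOf (f S) := by
      rw [hfy]
      exact MulEquiv.orderOf_eq (MulAut.conj y) (f S)
    rw [h5, h3, hnconj] at h4
    have h6 := (hn S).1
    constructor
    · intro h7
      by_contra h8
      rw [if_pos h7, if_neg h8] at h4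
      exact h6 h4.symm
    · intro h7
      by_contra h8
      rw [if_pos h7, if_neg h8] at h4
      exact h6 h4
  obtain ⟨h3, h4⟩ := H y hy hy0 hy1
  have h5 : ∀ S ∈ Γ₀, y ∈ centralizer (S.1 : Set M) := by
    intro S hS
    have hyN : y ∈ normalizer (S.1 : Set M) := by
      rw [Subgroup.mem_normalizer_iff_map_conj_eq]
      exact congrArg Subtype.val (h3 S hS)
    obtain ⟨k, hk⟩ := hy
    have h6 := eq_one_of_fixed (S := S.1) hp (hf1 S hS).2.1
      (α := Subgroup.normalizerMonoidHom S.1 ⟨y, hyN⟩) (k := k) (by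
        rw [← map_pow]
        have : (⟨y, hyN⟩ : normalizer (S.1 : Set M)) ^ p ^ k = 1 := Subtype.ext hk
        rw [this, map_one]) (by
        apply Subtype.ext
        show y * f S * y⁻¹ = f S
        rw [← hfy, h3 S hS])
    rw [Subgroup.mem_centralizer_iff]
    intro s hs
    have h7 := congrArg (fun α : MulAut S.1 => ((α ⟨s, hs⟩ : S.1) : M)) h6
    change y * s * y⁻¹ = s at h7
    exact (mul_inv_eq_iff_eq_mul.1 h7).symm
  have h6 := h4 h5
  exact ccent_cent K hA (fun S hS s hs => (Subgroup.mem_centralizer_iff.1 (h6 ⟨S, hS⟩) s hs).symm)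

end Cfsg.Agent.H434.RC
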