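import Mathlib
import Cfsg.Agent.H434.RC.NsOrbCore
import Cfsg.Agent.H434.RC.URowAll

/-!
# `NsOrb` for odd primes, from the classification (helper434)
-/

set_option autoImplicit false

namespace Cfsg.Agent.H434.RC

open Cfsg Cfsg.Agent.H527.RC

universe u

theorem nsOrb_known {p : ℕ} (hp : p.Prime) (h2 : p ≠ 2)
    (hk : ∀ (S : Type u) [Group S] [Finite S] [IsSimpleGroup S], IsKnownSimple' S) : NsOrb.{u} p := by
  refine nsOrb_of hp h2 (fun S _ _ _ hna hpS => ?_)
  obtain ⟨a, b, ha, hb, hab, ha1, hb1⟩ := exists_pair S hna hpS (uRow hp S hna (hk S))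
  exact ⟨(orderOf a, orderOf b), hab, ⟨a, ha1, ha, rfl⟩, b, hb1, hb, rfl⟩

end Cfsg.Agent.H434.RC
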